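import Cfsg.Agent.H49.OddCore
import Cfsg.Agent.FStar.PComp

/-!
# Cores of centralizers of involutions in an elementary abelian group of order at least eight
-/

set_option autoImplicit false
set_option linter.style.haveILetI false
set_option linter.unusedSectionVars false

namespace Cfsg.Agent.H49

open Subgroup

section

variable {G : Type*} [Group G] [Finite G]

theorem isPGroup_zpowers_sq {y : G} (hy : y ^ 2 = 1) : IsPGroup 2 (zpowers y) := by
  rcases (Nat.dvd_prime Nat.prime_two).1 (orderOf_dvd_of_pow_eq_one hy) with h | h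
  · apply IsPGroup.of_card (n := 0)
    rw [Nat.card_zpowers, h, pow_zero]
  · apply IsPGroup.of_card (n := 1)
    rw [Nat.card_zpowers, h, pow_one]

omit [Finite G] in
theorem mem_zpowers_sq {y x : G} (hy : y ^ 2 = 1) (hx : x ∈ zpowers y) : x = 1 ∨ x = y := by
  obtain ⟨n, rfl⟩ := mem_zpowers_iff.1 hx
  rcases Int.even_or_odd' n with ⟨k, rfl | rfl⟩
  · left
    rw [zpow_mul, zpow_ofNat, hy, one_zpow]
  · right
    rw [zpow_add, zpow_mul, zpow_ofNat, hy, one_zpow, one_mul, zpow_one]

omit [Finite G] in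
theorem normalizer_zpowers_sq {y : G} (hy : y ^ 2 = 1) :
    normalizer (zpowers y : Set G) = centralizer ({y} : Set G) := by
  apply le_antisymm
  · intro g hg
    rw [mem_centralizer_singleton_iff]
    have h1 := (mem_normalizer_iff.1 hg y).1 (mem_zpowers y)
    rcases mem_zpowers_sq hy h1 with h | h
    · have : y = 1 := by
        have := congrArg (fun x => g⁻¹ * x * g) h
        simpa [mul_assoc] using this
      rw [this]; simp
    · have := congrArg (fun x => x * g) h
      simpa using this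
  · rw [← Subgroup.centralizer_closure, ← Subgroup.zpowers_eq_closure]
    exact centralizer_le_normalizer' _

/-- A subgroup of odd order normal in `C_G(y)` (`y` an involution) centralizes `O_2(G)`. -/
theorem centralizes_pCore_of_normal_centralizer {y : G} (hy : y ^ 2 = 1) {E : Subgroup G}
    (hE : E ≤ centralizer ({y} : Set G)) (hn : centralizer ({y} : Set G) ≤ normalizer (E : Set G))
    (hodd : (Nat.card E).Coprime 2) : E ≤ centralizer (Cfsg.pCore 2 G : Set G) := by
  rw [← normalizer_zpowers_sq hy] at hE hn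
  haveI : Fact (Nat.Prime 2) := ⟨Nat.prime_two⟩
  exact (le_pcOf hE hn hodd).trans (FStar.pPrimeCore_normalizer_le (isPGroup_zpowers_sq hy))

/-- If `z` inverts `O(G)` and `E(G) = 1`, then a subgroup of odd order normal in `C_G(y)` and
inverted by `z` lies in `O(G)`. -/
theorem le_oddCore_of_inverts {y z : G} (hy : y ^ 2 = 1) {E : Subgroup G}
    (hE : E ≤ centralizer ({y} : Set G)) (hn : centralizer ({y} : Set G) ≤ normalizer (E : Set G))
    (hodd : (Nat.card E).Coprime 2) (hlay : Cfsg.layer G = ⊥)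
    (hz : ∀ d ∈ Cfsg.pPrimeCore 2 G, z * d * z⁻¹ = d⁻¹) (hzE : ∀ d ∈ E, z * d * z⁻¹ = d⁻¹) :
    E ≤ Cfsg.pPrimeCore 2 G := by
  haveI : Fact (Nat.Prime 2) := ⟨Nat.prime_two⟩
  have h2 := centralizes_pCore_of_normal_centralizer hy hE hn hodd
  have hoddE : Odd (Nat.card E) := Nat.coprime_two_right.1 hodd
  -- `E` centralizes `O(G)`
  have h1 : E ≤ centralizer (Cfsg.pPrimeCore 2 G : Set G) := by
    intro e he
    apply mem_of_sq_mem hoddE he
    rw [mem_centralizer_iff]
    intro d hd
    have hN : (Cfsg.pPrimeCore 2 G).Normal := inferInstance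
    have hd1 : e⁻¹ * d * e ∈ Cfsg.pPrimeCore 2 G := by
      have := hN.conj_mem d hd e⁻¹
      simpa using this
    have e1 := hz _ hd1
    have e2 := hz _ hd
    have e3 := hzE _ he
    have e4 : z * (e⁻¹ * d * e) * z⁻¹ = e * d⁻¹ * e⁻¹ := by
      calc z * (e⁻¹ * d * e) * z⁻¹ = (z * e * z⁻¹)⁻¹ * (z * d * z⁻¹) * (z * e * z⁻¹) := by group
        _ = e * d⁻¹ * e⁻¹ := by rw [e2, e3, inv_inv]
    rw [e4] at e1
    -- e1 : e * d⁻¹ * e⁻¹ = (e⁻¹ * d * e)⁻¹
    have e5 : e * d * e⁻¹ = e⁻¹ * d * e := by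
      have := congrArg Inv.inv e1
      simpa [mul_assoc] using this
    calc d * e ^ 2 = e * (e⁻¹ * d * e) * e := by rw [sq]; group
      _ = e * (e * d * e⁻¹) * e := by rw [e5]
      _ = e ^ 2 * d := by rw [sq]; group
  have h3 : E ≤ centralizer (Cfsg.generalizedFittingSubgroup G : Set G) := by
    rw [← Subgroup.le_centralizer_iff, Cfsg.generalizedFittingSubgroup, hlay, bot_sup_eq,
      Solv.fitting_eq_iSup_pCore]
    apply iSup_le
    intro q
    haveI : Fact (q : ℕ).Prime := ⟨q.2⟩
    rw [Subgroup.le_centralizer_iff]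
    by_cases hq : (q : ℕ) = 2
    · rw [hq]; exact h2
    · exact h1.trans (Subgroup.centralizer_le (FStar.pCore_le_pPrimeCore_of_ne hq))
  have h4 : E ≤ Cfsg.generalizedFittingSubgroup G := h3.trans FStar.centralizer_generalizedFitting_le
  set F := Cfsg.generalizedFittingSubgroup G with hF
  have h5 : E ≤ F ⊓ centralizer (F : Set G) := le_inf h4 h3
  have hs : E.IsSubnormal := by
    refine Subgroup.IsSubnormal.step _ _ h5 (Subgroup.Normal.isSubnormal inferInstance) ?_
    rw [normal_subgroupOf_iff_le_normalizer h5]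
    intro x hx
    apply mem_normalizer_of_commute
    rw [mem_centralizer_iff]
    intro e he
    exact (mem_centralizer_iff.1 (h3 he) x hx.1).symm
  exact FStar.le_pPrimeCore_of_isSubnormal hs hodd

/-- A set of pairwise commuting elements of odd order generates a group of odd order. -/
theorem odd_card_closure {s : Set G} (hc : ∀ a ∈ s, ∀ b ∈ s, a * b = b * a)
    (ho : ∀ a ∈ s, Odd (orderOf a)) : Odd (Nat.card (closure s)) := by
  have hcomm : ∀ a ∈ closure s, ∀ b ∈ closure s, a * b = b * a := by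
    have h1 : closure s ≤ centralizer (s : Set G) := by
      rw [closure_le]
      intro a ha
      rw [SetLike.mem_coe, mem_centralizer_iff]
      intro b hb
      exact hc b hb a ha
    have h2 : closure s ≤ centralizer (closure s : Set G) := by
      rw [Subgroup.le_centralizer_iff, closure_le]
      intro a ha
      rw [SetLike.mem_coe, mem_centralizer_iff]
      intro b hb
      exact (mem_centralizer_iff.1 (h1 hb) a ha).symm
    intro a ha b hb
    exact (mem_centralizer_iff.1 (h2 ha) b hb).symm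
  let T : Subgroup G :=
    { carrier := {a | a ∈ closure s ∧ Odd (orderOf a)}
      one_mem' := ⟨one_mem _, by simp⟩
      mul_mem' := by
        rintro a b ⟨ha, ha'⟩ ⟨hb, hb'⟩
        refine ⟨mul_mem ha hb, ?_⟩
        have hab : Commute a b := hcomm a ha b hb
        exact Odd.of_dvd_nat (ha'.mul hb') (hab.orderOf_mul_dvd_mul_orderOf)
      inv_mem' := by
        rintro a ⟨ha, ha'⟩
        exact ⟨inv_mem ha, by rwa [orderOf_inv]⟩ }
  have hT : closure s ≤ T := by
    rw [closure_le]
    intro a ha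
    exact ⟨Subgroup.subset_closure ha, ho a ha⟩
  rw [← Nat.not_even_iff_odd, even_iff_two_dvd]
  intro h2
  haveI : Fact (Nat.Prime 2) := ⟨Nat.prime_two⟩
  obtain ⟨x, hx⟩ := exists_prime_orderOf_dvd_card' (G := closure s) 2 h2
  have h3 := (hT x.2).2
  rw [Subgroup.orderOf_coe, hx] at h3
  exact absurd h3 (by decide)

/-- The main argument. -/
theorem odd_core_generation (Y : Subgroup G) (hY : Cfsg.IsElementaryAbelian 2 Y)
    (h8 : 8 ≤ Nat.card ↥Y)
    (hE : ∀ x ∈ Y, x ≠ 1 → Cfsg.layer ↥(centralizer ({x} : Set G)) = ⊥)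
    {z : G} (hzY : z ∈ Y) (hz1 : z ≠ 1)
    (hz : IsPGroup 2 (Cfsg.generalizedFittingSubgroup ↥(centralizer ({z} : Set G)))) :
    Odd (Nat.card ↥(⨆ y : {y : G // y ∈ Y ∧ y ≠ 1}, pcOf 2 (centralizer ({(y : G)} : Set G)))) := by
  classical
  haveI : Fact (Nat.Prime 2) := ⟨Nat.prime_two⟩
  have hcomm : ∀ a ∈ Y, ∀ b ∈ Y, a * b = b * a := fun a ha b hb =>
    congrArg Subtype.val (hY.1.is_comm.comm (⟨a, ha⟩ : Y) ⟨b, hb⟩)
  have hmem : ∀ a ∈ Y, ∀ b ∈ Y, a ∈ centralizer ({b} : Set G) := fun a ha b hb => by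
    rw [mem_centralizer_singleton_iff]; exact hcomm a ha b hb
  have hcop : ∀ H : Subgroup G, (Nat.card (pcOf 2 H)).Coprime 2 := fun H => pcOf_card_coprime 2 H
  have hcodd : ∀ H : Subgroup G, Odd (Nat.card (pcOf 2 H)) := fun H => Nat.coprime_two_right.1 (hcop H)
  -- the intersection of θ(y) with C(y') : basic facts in M = C(y')
  -- Step 2: z inverts θ(y)
  have hinv : ∀ y ∈ Y, ∀ d ∈ pcOf 2 (centralizer ({y} : Set G)), z * d * z⁻¹ = d⁻¹ := by
    intro y hyY
    apply inverts_of_fixedPointFree (hY.2 z hzY)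
    · exact le_normalizer_pcOf _ _ (hmem z hzY y hyY)
    intro d hd hdz
    set N := centralizer ({z} : Set G) with hN
    have hyN : y ∈ N := hmem y hyY z hzY
    have hdN : d ∈ N := by
      rw [hN, mem_centralizer_singleton_iff]
      have := congrArg (fun x => x * z) hdz
      simpa using this.symm
    set E : Subgroup N := (pcOf 2 (centralizer ({y} : Set G))).subgroupOf N with hE'
    have hEy : E ≤ centralizer ({(⟨y, hyN⟩ : N)} : Set N) := by
      intro e he
      rw [mem_centralizer_singleton_iff]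
      have := mem_centralizer_singleton_iff.1 (pcOf_le _ _ he)
      exact Subtype.ext this
    have hEn : centralizer ({(⟨y, hyN⟩ : N)} : Set N) ≤ normalizer (E : Set N) := by
      intro g hg
      have hg' : (g : G) ∈ centralizer ({y} : Set G) := by
        rw [mem_centralizer_singleton_iff] at hg ⊢
        exact congrArg Subtype.val hg
      have h1 := le_normalizer_pcOf 2 _ hg'
      rw [mem_normalizer_iff] at h1 ⊢
      intro h
      exact h1 h
    have hEodd : (Nat.card E).Coprime 2 :=
      Nat.Coprime.coprime_dvd_left (Subgroup.card_comap_dvd_of_injective _ _ N.subtype_injective)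
        (hcop _)
    have h2 := centralizes_pCore_of_normal_centralizer (y := (⟨y, hyN⟩ : N))
      (Subtype.ext (hY.2 y hyY)) hEy hEn hEodd
    have h3 : E ≤ Cfsg.pCore 2 N := by
      rw [← FStar.generalizedFitting_eq_pCore_iff.2 hz] at h2 ⊢
      exact h2.trans FStar.centralizer_generalizedFitting_le
    have h4 : IsPGroup 2 E := (Solv.pCore_isPGroup 2).to_le h3
    have h5 : Nat.card E = 1 := by
      obtain ⟨n, hn⟩ := IsPGroup.iff_card.1 h4
      rw [hn] at hEodd ⊢
      rcases Nat.eq_zero_or_pos n with rfl | hn0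
      · simp
      · exfalso
        have := Nat.Coprime.coprime_dvd_left (dvd_pow_self 2 hn0.ne') hEodd
        norm_num at this
    have h6 : (⟨d, hdN⟩ : N) ∈ E := hd
    rw [Subgroup.card_eq_one.1 h5, mem_bot] at h6
    exact congrArg Subtype.val h6
  -- Step 3: balance
  have hbal : ∀ y ∈ Y, ∀ y' ∈ Y, y' ≠ 1 →
      pcOf 2 (centralizer ({y} : Set G)) ⊓ centralizer ({y'} : Set G) ≤
        pcOf 2 (centralizer ({y'} : Set G)) := by
    intro y hyY y' hyY' hy1'
    set M := centralizer ({y'} : Set G) with hM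
    have hyM : y ∈ M := hmem y hyY y' hyY'
    have hzM : z ∈ M := hmem z hzY y' hyY'
    set E : Subgroup M := (pcOf 2 (centralizer ({y} : Set G))).subgroupOf M with hE'
    have hEy : E ≤ centralizer ({(⟨y, hyM⟩ : M)} : Set M) := by
      intro e he
      rw [mem_centralizer_singleton_iff]
      have := mem_centralizer_singleton_iff.1 (pcOf_le _ _ he)
      exact Subtype.ext this
    have hEn : centralizer ({(⟨y, hyM⟩ : M)} : Set M) ≤ normalizer (E : Set M) := by
      intro g hg
      have hg' : (g : G) ∈ centralizer ({y} : Set G) := by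
        rw [mem_centralizer_singleton_iff] at hg ⊢
        exact congrArg Subtype.val hg
      have h1 := le_normalizer_pcOf 2 _ hg'
      rw [mem_normalizer_iff] at h1 ⊢
      intro h
      exact h1 h
    have hEodd : (Nat.card E).Coprime 2 :=
      Nat.Coprime.coprime_dvd_left (Subgroup.card_comap_dvd_of_injective _ _ M.subtype_injective)
        (hcop _)
    have h2 := le_oddCore_of_inverts (y := (⟨y, hyM⟩ : M)) (z := (⟨z, hzM⟩ : M))
      (Subtype.ext (hY.2 y hyY)) hEy hEn hEodd (hE y' hyY' hy1')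
      (fun d hd => Subtype.ext (hinv y' hyY' d ⟨d, hd, rfl⟩))
      (fun d hd => Subtype.ext (hinv y hyY d hd))
    rintro x ⟨hx1, hx2⟩
    have h3 : (⟨x, hx2⟩ : M) ∈ E := hx1
    exact ⟨⟨x, hx2⟩, h2 h3, rfl⟩
  -- Step 4
  obtain ⟨l, hl⟩ : ∃ l : List G, ∀ y, y ∈ l ↔ y ∈ Y :=
    ⟨(Set.toFinite (Y : Set G)).toFinset.toList, fun y => by simp⟩
  set s : Set G := {e | (∃ y ∈ Y, y ≠ 1 ∧ e ∈ pcOf 2 (centralizer ({y} : Set G))) ∧
    ∀ y ∈ l, y * e * y⁻¹ = e ∨ y * e * y⁻¹ = e⁻¹} with hs
  have hW : (⨆ y : {y : G // y ∈ Y ∧ y ≠ 1}, pcOf 2 (centralizer ({(y : G)} : Set G))) =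
      closure s := by
    apply le_antisymm
    · apply iSup_le
      rintro ⟨y, hyY, hy1⟩
      refine (closure_eigen (hcodd _) (commute_of_inverts (hinv y hyY)) Y hY ?_ l
        (fun y hy => (hl y).1 hy)).trans ?_
      · intro a ha
        exact le_normalizer_pcOf _ _ (hmem a ha y hyY)
      · apply Subgroup.closure_mono
        rintro e ⟨he1, he2⟩
        exact ⟨⟨y, hyY, hy1, he1⟩, he2⟩
    · rw [closure_le]
      rintro e ⟨⟨y, hyY, hy1, he⟩, -⟩
      exact (le_iSup (fun y : {y : G // y ∈ Y ∧ y ≠ 1} =>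
        pcOf 2 (centralizer ({(y : G)} : Set G))) ⟨y, hyY, hy1⟩) he
  rw [hW]
  apply odd_card_closure
  · rintro a ⟨⟨y1, hy1, hy1', ha⟩, ha'⟩ b ⟨⟨y2, hy2, hy2', hb⟩, hb'⟩
    -- find h ≠ 1 in Y centralizing both
    obtain ⟨h, hhY, hh1, hha, hhb⟩ : ∃ h ∈ Y, h ≠ 1 ∧ h * a * h⁻¹ = a ∧ h * b * h⁻¹ = b := by
      let f : Y → Bool × Bool := fun y =>
        (decide ((y : G) * a * (y : G)⁻¹ = a), decide ((y : G) * b * (y : G)⁻¹ = b))
      have hf : ¬ Function.Injective f := by
        intro hf
        haveI : Fintype Y := Fintype.ofFinite _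
        have h1 := Nat.card_le_card_of_injective f hf
        have h2 : Nat.card (Bool × Bool) = 4 := by simp
        omega
      simp only [Function.Injective, not_forall] at hf
      obtain ⟨u, v, huv, hne⟩ := hf
      have key : ∀ c : G, (∀ y ∈ l, y * c * y⁻¹ = c ∨ y * c * y⁻¹ = c⁻¹) →
          ((u : G) * c * (u : G)⁻¹ = c ↔ (v : G) * c * (v : G)⁻¹ = c) →
          ((u : G)⁻¹ * v) * c * ((u : G)⁻¹ * v)⁻¹ = c := by
        intro c hc huv
        have e1 : ((u : G)⁻¹ * v) * c * ((u : G)⁻¹ * v)⁻¹ =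
            (u : G)⁻¹ * ((v : G) * c * (v : G)⁻¹) * u := by group
        by_cases h1 : (u : G) * c * (u : G)⁻¹ = c
        · rw [e1, huv.1 h1]
          have := congrArg (fun x => (u : G)⁻¹ * x * u) h1
          simp only [mul_assoc] at this ⊢
          simpa using this.symm
        · have h2 : ¬ (v : G) * c * (v : G)⁻¹ = c := fun h => h1 (huv.2 h)
          have h3 := (hc u ((hl _).2 u.2)).resolve_left h1
          have h4 := (hc v ((hl _).2 v.2)).resolve_left h2
          rw [e1, h4]
          have := congrArg (fun x => (u : G)⁻¹ * x⁻¹ * u) h3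
          simp only [mul_assoc, mul_inv_rev, inv_inv] at this ⊢
          have h5 : (u : G)⁻¹ * (c⁻¹ * u) = ((u : G)⁻¹ * (c * u))⁻¹ := by group
          rw [h5, ← this]
          group
      refine ⟨(u : G)⁻¹ * v, Y.mul_mem (Y.inv_mem u.2) v.2, ?_, key a ha' ?_, key b hb' ?_⟩
      · intro h
        apply hne
        apply Subtype.ext
        exact (inv_mul_eq_one.1 h)
      · have := congrArg Prod.fst huv
        simpa [f] using this
      · have := congrArg Prod.snd huv
        simpa [f] using this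
    have hmemc : ∀ c : G, h * c * h⁻¹ = c → c ∈ centralizer ({h} : Set G) := by
      intro c hc
      rw [mem_centralizer_singleton_iff]
      have := congrArg (fun x => x * h) hc
      simpa using this.symm
    have ha2 := hbal y1 hy1 h hhY hh1 ⟨ha, hmemc a hha⟩
    have hb2 := hbal y2 hy2 h hhY hh1 ⟨hb, hmemc b hhb⟩
    exact commute_of_inverts (hinv h hhY) a ha2 b hb2
  · rintro a ⟨⟨y, hyY, hy1, ha⟩, -⟩
    have := Subgroup.orderOf_dvd_natCard _ ha
    exact Odd.of_dvd_nat (hcodd _) this

end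

end Cfsg.Agent.H49
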