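import Mathlib.GroupTheory.Sylow
import Mathlib.GroupTheory.Transfer
import Mathlib.GroupTheory.SpecificGroups.ZGroup
import Cfsg.Agent.H49.Core
import Cfsg.Prelude.Def_TwoFusion
import Cfsg.Prelude.Def_Transfer
import Cfsg.Prelude.Def_IsolatedElements

set_option autoImplicit false

/-!
Isolated p-elements.
-/

open Subgroup

namespace Cfsg.Agent.H49

variable {G : Type*} [Group G]

theorem isolated_subtype {H : Subgroup G} {x : H} (h : Cfsg.IsIsolated (x : G)) :
    Cfsg.IsIsolated x := by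
  intro g hg
  apply Subtype.ext
  have h1 : Commute (x : G) ((g : G) * x * (g : G)⁻¹) := by
    have := congrArg Subtype.val hg.eq
    exact this
  simpa using h g h1

theorem mem_center_of_isolated_of_isNilpotent [Group.IsNilpotent G] {x : G}
    (h : Cfsg.IsIsolated x) : x ∈ center G := by
  by_contra hx
  have hC : centralizer ({x} : Set G) ≠ ⊤ := by
    intro htop
    apply hx
    rw [mem_center_iff]
    intro g
    have : g ∈ centralizer ({x} : Set G) := by rw [htop]; trivial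
    exact (mem_centralizer_iff.1 this x rfl).symm
  have h1 := Group.normalizerCondition_of_isNilpotent (G := G) _ (lt_top_iff_ne_top.2 hC)
  obtain ⟨g, hg1, hg2⟩ := SetLike.exists_of_lt h1
  apply hg2
  have h2 : x ∈ centralizer ({x} : Set G) := by
    rw [mem_centralizer_iff]
    rintro y rfl; rfl
  have h3 := (mem_normalizer_iff.1 hg1 x).1 h2
  have h4 : Commute x (g * x * g⁻¹) := mem_centralizer_iff.1 h3 x rfl
  have h5 := h g h4
  rw [mem_centralizer_iff]
  rintro y rfl
  calc y * g = (g * y * g⁻¹) * g := by rw [h5]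
    _ = g * y := by group

theorem isolated_commute_of_mem_pGroup [Finite G] {p : ℕ} [Fact p.Prime] {x : G}
    (h : Cfsg.IsIsolated x) {R : Subgroup G} (hR : IsPGroup p R) (hx : x ∈ R) {r : G}
    (hr : r ∈ R) : Commute x r := by
  have : Group.IsNilpotent R := hR.isNilpotent
  have h1 : (⟨x, hx⟩ : R) ∈ center R :=
    mem_center_of_isolated_of_isNilpotent (isolated_subtype (x := (⟨x, hx⟩ : R)) h)
  have h2 := mem_center_iff.1 h1 ⟨r, hr⟩
  exact (congrArg Subtype.val h2).symm

theorem isPGroup_zpowers {p : ℕ} {x : G} (hx : ∃ k : ℕ, orderOf x = p ^ k) :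
    IsPGroup p (zpowers x) := by
  obtain ⟨k, hk⟩ := hx
  apply IsPGroup.of_card (n := k)
  rw [Nat.card_zpowers, hk]

/-- If `x` is an isolated `p`-element and `H` contains `x` and `y = g x g⁻¹`, then `y` is conjugate
to `x` in `H`. -/
theorem isolated_conj_in [Finite G] {p : ℕ} [Fact p.Prime] {x : G}
    (hx : ∃ k : ℕ, orderOf x = p ^ k) (h : Cfsg.IsIsolated x) {H : Subgroup G} (hxH : x ∈ H)
    {g : G} (hg : g * x * g⁻¹ ∈ H) : ∃ k ∈ H, (k * g) * x * (k * g)⁻¹ = x := by
  classical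
  have h1 : IsPGroup p (zpowers (⟨x, hxH⟩ : H)) := by
    apply isPGroup_zpowers
    obtain ⟨k, hk⟩ := hx
    exact ⟨k, by rw [← hk, ← Subgroup.orderOf_coe]⟩
  have h2 : IsPGroup p (zpowers (⟨g * x * g⁻¹, hg⟩ : H)) := by
    apply isPGroup_zpowers
    obtain ⟨k, hk⟩ := hx
    refine ⟨k, ?_⟩
    rw [← hk, ← Subgroup.orderOf_coe]
    exact (MulAut.conj g).orderOf_eq x
  obtain ⟨P, hP⟩ := h1.exists_le_sylow
  obtain ⟨Q, hQ⟩ := h2.exists_le_sylow
  obtain ⟨k, hk⟩ := MulAction.exists_smul_eq H Q P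
  have hxP : (⟨x, hxH⟩ : H) ∈ (P : Subgroup H) := hP (mem_zpowers _)
  have hyQ : (⟨g * x * g⁻¹, hg⟩ : H) ∈ (Q : Subgroup H) := hQ (mem_zpowers _)
  have hyP : k * (⟨g * x * g⁻¹, hg⟩ : H) * k⁻¹ ∈ (P : Subgroup H) := by
    rw [← hk, Sylow.coe_subgroup_smul, Subgroup.mem_pointwise_smul_iff_inv_smul_mem]
    simpa [mul_assoc] using hyQ
  refine ⟨k, k.2, ?_⟩
  have hR : IsPGroup p ↥((P : Subgroup H).map H.subtype) := P.2.map _
  have h3 : (k * g : G) * x * (k * g : G)⁻¹ ∈ (P : Subgroup H).map H.subtype := by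
    refine ⟨_, hyP, ?_⟩
    simp [mul_assoc]
  have h4 : x ∈ (P : Subgroup H).map H.subtype := ⟨_, hxP, rfl⟩
  exact h _ (isolated_commute_of_mem_pGroup h hR h4 h3)

theorem isolated_zpow_conj_eq [Finite G] {p : ℕ} [Fact p.Prime] {P : Subgroup G}
    (hP : IsPGroup p P) {x : G}
    (hxP : x ∈ P) (hx : ∃ k : ℕ, orderOf x = p ^ k) (hiso : Cfsg.IsIsolated x) (n : ℤ) (g : G)
    (hg : g * x ^ n * g⁻¹ ∈ P) : g * x ^ n * g⁻¹ = x ^ n := by
  -- C = C_G(y^g)
  have h1 : x ∈ centralizer ({g * x ^ n * g⁻¹} : Set G) := by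
    rw [mem_centralizer_iff]
    rintro z rfl
    exact (isolated_commute_of_mem_pGroup hiso hP hxP hg).symm
  have h2 : g * x * g⁻¹ ∈ centralizer ({g * x ^ n * g⁻¹} : Set G) := by
    rw [mem_centralizer_iff]
    rintro z rfl
    have : x ^ n * x = x * x ^ n := (Commute.refl x).zpow_left n
    calc g * x ^ n * g⁻¹ * (g * x * g⁻¹) = g * (x ^ n * x) * g⁻¹ := by group
      _ = g * (x * x ^ n) * g⁻¹ := by rw [this]
      _ = _ := by group
  obtain ⟨k, hk, hkx⟩ := isolated_conj_in hx hiso h1 h2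
  have h3 := mem_centralizer_iff.1 hk _ rfl
  have e1 : k * (g * x ^ n * g⁻¹) * k⁻¹ = g * x ^ n * g⁻¹ := by
    rw [← h3]; group
  have e2 : k * (g * x ^ n * g⁻¹) * k⁻¹ = ((k * g) * x * (k * g)⁻¹) ^ n := by
    rw [conj_zpow]; group
  rw [← e1, e2, hkx]

/-- S2968 -/
theorem isolated_central_closed [Finite G] {p : ℕ} [Fact p.Prime] (P : Sylow p G) (x : G)
    (hxP : x ∈ (P : Subgroup G)) (hx : ∃ k : ℕ, orderOf x = p ^ k) (hiso : Cfsg.IsIsolated x) :
    x ∈ (P : Subgroup G) ⊓ Subgroup.centralizer ((P : Subgroup G) : Set G) ∧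
      Cfsg.IsStronglyClosed (Subgroup.zpowers x) (P : Subgroup G) ∧
      Cfsg.IsWeaklyClosed (Subgroup.zpowers x) (P : Subgroup G) := by
  have hstr : Cfsg.IsStronglyClosed (Subgroup.zpowers x) (P : Subgroup G) := by
    refine ⟨by rwa [zpowers_le], ?_⟩
    intro y hy g hg
    obtain ⟨n, rfl⟩ := hy
    simp only at *
    have h4 := isolated_zpow_conj_eq P.2 hxP hx hiso n g hg
    rw [h4]
    exact zpow_mem (mem_zpowers x) n
  refine ⟨⟨hxP, ?_⟩, hstr, ?_⟩
  · refine mem_centralizer_iff.2 ?_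
    intro y hy
    exact (isolated_commute_of_mem_pGroup hiso P.2 hxP hy).symm
  · refine ⟨hstr.1, ?_⟩
    intro g hg
    apply Subgroup.eq_of_le_of_card_ge
    · rintro _ ⟨y, hy, rfl⟩
      exact hstr.2 y hy g (hg ⟨y, hy, rfl⟩)
    · exact (Nat.card_congr ((zpowers x).equivMapOfInjective _
        (MulAut.conj g).injective).toEquiv).le

/-- S2969 -/
theorem isolated_normalizer_frattini [Finite G] {p : ℕ} [Fact p.Prime] (x : G)
    (hx : ∃ k : ℕ, orderOf x = p ^ k) (hiso : Cfsg.IsIsolated x) :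
    (∀ R : Subgroup G, IsPGroup p ↥R → x ∈ R →
      Subgroup.normalizer (R : Set G) ≤ Subgroup.centralizer ({x} : Set G)) ∧
    (∀ H N : Subgroup G, N ≤ H → H ≤ Subgroup.normalizer (N : Set G) → x ∈ N →
      N ⊔ (H ⊓ Subgroup.centralizer ({x} : Set G)) = H) := by
  have key : ∀ g : G, g * x * g⁻¹ = x → g ∈ centralizer ({x} : Set G) := by
    intro g hg
    rw [mem_centralizer_iff]
    rintro y rfl
    calc y * g = (g * y * g⁻¹) * g := by rw [hg]
      _ = g * y := by group
  constructor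
  · intro R hR hxR g hg
    apply key
    apply hiso
    exact isolated_commute_of_mem_pGroup hiso hR hxR ((mem_normalizer_iff.1 hg x).1 hxR)
  · intro H N hNH hHN hxN
    apply le_antisymm (sup_le hNH inf_le_left)
    intro h hh
    have h1 : h * x * h⁻¹ ∈ N := (mem_normalizer_iff.1 (hHN hh) x).1 hxN
    obtain ⟨k, hk, hkx⟩ := isolated_conj_in hx hiso hxN h1
    have h2 : k * h ∈ H ⊓ centralizer ({x} : Set G) := ⟨mul_mem (hNH hk) hh, key _ hkx⟩
    have h3 : h = k⁻¹ * (k * h) := by group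
    rw [h3]
    exact mul_mem (mem_sup_left (inv_mem hk)) (mem_sup_right h2)

/-- S2970, first part -/
theorem isolated_quotient [Finite G] {p : ℕ} [Fact p.Prime] (x : G)
    (hx : ∃ k : ℕ, orderOf x = p ^ k) (hiso : Cfsg.IsIsolated x) (N : Subgroup G) [N.Normal] :
    Cfsg.IsIsolated (QuotientGroup.mk x : G ⧸ N) := by
  intro gq
  obtain ⟨g, rfl⟩ := QuotientGroup.mk_surjective gq
  intro hcom
  set y : G := g * x * g⁻¹ with hy
  have hyq : (QuotientGroup.mk y : G ⧸ N) =
      QuotientGroup.mk g * QuotientGroup.mk x * (QuotientGroup.mk g)⁻¹ := rfl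
  rw [← hyq] at hcom ⊢
  set L : Subgroup G := (centralizer ({(QuotientGroup.mk y : G ⧸ N)} : Set (G ⧸ N))).comap
    (QuotientGroup.mk' N) with hL
  have hxL : x ∈ L := by
    rw [hL, mem_comap, mem_centralizer_iff]
    rintro z rfl
    exact hcom.symm.eq
  have hyL : g * x * g⁻¹ ∈ L := by
    rw [hL, mem_comap, mem_centralizer_iff]
    rintro z rfl
    rfl
  obtain ⟨k, hk, hkx⟩ := isolated_conj_in hx hiso hxL hyL
  have h1 : (QuotientGroup.mk k : G ⧸ N) * QuotientGroup.mk y * (QuotientGroup.mk k)⁻¹ =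
      QuotientGroup.mk x := by
    rw [← QuotientGroup.mk_inv, ← QuotientGroup.mk_mul, ← QuotientGroup.mk_mul]
    congr 1
    rw [← hkx]
    simp only [hy]
    group
  have h2 : (QuotientGroup.mk y : G ⧸ N) * QuotientGroup.mk k =
      QuotientGroup.mk k * QuotientGroup.mk y := by
    rw [hL, mem_comap, mem_centralizer_iff] at hk
    exact hk _ rfl
  rw [← h1, ← h2]
  group

/-- S2970, second part -/
theorem isolated_cyclic_sylow [Finite G] {p : ℕ} [Fact p.Prime] (x : G)
    (hx : ∃ k : ℕ, orderOf x = p ^ k) (hiso : Cfsg.IsIsolated x) (hx1 : x ≠ 1)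
    (hcyc : ∀ P : Sylow p G, IsCyclic ↥(P : Subgroup G)) :
    ∃ (P : Sylow p G) (N : Subgroup G), N.Normal ∧ N.IsComplement' (P : Subgroup G) := by
  obtain ⟨P, hP⟩ := (isPGroup_zpowers hx).exists_le_sylow
  have hxP : x ∈ (P : Subgroup G) := hP (mem_zpowers x)
  have := hcyc P
  rcases P.normalizer_le_centralizer_or_le_commutator with h | h
  · exact ⟨P, _, MonoidHom.normal_ker _, MonoidHom.ker_transferSylow_isComplement' P h⟩
  · exfalso
    have key : ∀ (k : ℕ) (g₀ : G), g₀⁻¹ * x ^ k * g₀ ∈ (P : Subgroup G) →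
        g₀⁻¹ * x ^ k * g₀ = x ^ k := by
      intro k g₀ hg₀
      have := isolated_zpow_conj_eq P.2 hxP hx hiso k g₀⁻¹ (by simpa using hg₀)
      simpa using this
    have h1 := MonoidHom.transfer_eq_pow (H := (P : Subgroup G))
      (Abelianization.of (G := (P : Subgroup G))) x key
    have h2 : MonoidHom.transfer (Abelianization.of (G := (P : Subgroup G))) x = 1 :=
      Abelianization.commutator_subset_ker _ (h hxP)
    rw [h2] at h1
    have hcomm : commutator (P : Subgroup G) = ⊥ := by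
      rw [commutator_eq_bot_iff_center_eq_top, eq_top_iff]
      intro y _
      rw [mem_center_iff]
      intro z
      obtain ⟨w, hw⟩ := IsCyclic.exists_generator (α := (P : Subgroup G))
      obtain ⟨a, rfl⟩ := hw y
      obtain ⟨b, rfl⟩ := hw z
      exact (Commute.refl w).zpow_zpow b a
    have h3 : (⟨x ^ (P : Subgroup G).index, _⟩ : (P : Subgroup G)) ∈
        (Abelianization.of (G := (P : Subgroup G))).ker := h1.symm
    rw [Abelianization.ker_of, hcomm, mem_bot] at h3
    have h4 : x ^ (P : Subgroup G).index = 1 := congrArg Subtype.val h3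
    apply hx1
    refine eq_one_of_coprime_of_pGroup P.2 hxP ?_ h4
    rw [Nat.coprime_comm, Nat.Prime.coprime_iff_not_dvd Fact.out]
    exact P.not_dvd_index

end Cfsg.Agent.H49
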