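import Cfsg.Agent.H49.CharPF
import Cfsg.Prelude.Def_CaseTheorems
import Cfsg.Prelude.Def_Transfer
import Mathlib.GroupTheory.FixedPointFree

/-!
# `O_{p'}(H)` of a subgroup; actions of elementary abelian 2-groups on abelian groups of odd order
-/

set_option autoImplicit false

namespace Cfsg.Agent.H49

open Subgroup

variable {G : Type*} [Group G]

/-- `O_{p'}(H)` for a subgroup `H`. -/
def pcOf (p : ℕ) (H : Subgroup G) : Subgroup G := (Cfsg.pPrimeCore p H).map H.subtype

theorem pcOf_le (p : ℕ) (H : Subgroup G) : pcOf p H ≤ H := by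
  rintro _ ⟨y, -, rfl⟩; exact y.2

theorem pcOf_card_coprime [Finite G] (p : ℕ) (H : Subgroup G) :
    (Nat.card (pcOf p H)).Coprime p := by
  rw [pcOf, Subgroup.card_map_of_injective H.subtype_injective]
  exact Solv.pPrimeCore_card_coprime p

theorem le_pcOf {p : ℕ} {H K : Subgroup G} (hK : K ≤ H) (hKn : H ≤ normalizer (K : Set G))
    (hp : (Nat.card K).Coprime p) : K ≤ pcOf p H := by
  have h1 : (K.subgroupOf H).Normal := (normal_subgroupOf_iff_le_normalizer hK).2 hKn
  have h2 : (Nat.card (K.subgroupOf H)).Coprime p := by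
    rw [Nat.card_congr (Subgroup.subgroupOfEquivOfLe hK).toEquiv]
    exact hp
  have h3 : K.subgroupOf H ≤ Cfsg.pPrimeCore p H := le_sSup ⟨h1, h2⟩
  intro x hx
  exact ⟨⟨x, hK hx⟩, h3 hx, rfl⟩

theorem normalizer_le_normalizer_pcOf [Finite G] (p : ℕ) (H : Subgroup G) :
    normalizer (H : Set G) ≤ normalizer (pcOf p H : Set G) := by
  have : (Cfsg.pPrimeCore p H).Characteristic := by
    rw [Subgroup.characteristic_iff_map_eq]
    intro φ
    exact Solv.map_pPrimeCore p φ
  exact normalizer_le_normalizer_map_of_char H _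

theorem le_normalizer_pcOf [Finite G] (p : ℕ) (H : Subgroup G) :
    H ≤ normalizer (pcOf p H : Set G) := le_normalizer.trans (normalizer_le_normalizer_pcOf p H)

theorem map_pcOf [Finite G] (p : ℕ) (H : Subgroup G) (g : G) :
    (pcOf p H).map (MulAut.conj g).toMonoidHom = pcOf p (H.map (MulAut.conj g).toMonoidHom) := by
  have key : ∀ (H : Subgroup G) (g : G), (pcOf p H).map (MulAut.conj g).toMonoidHom ≤
      pcOf p (H.map (MulAut.conj g).toMonoidHom) := by
    intro H g
    apply le_pcOf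
    · exact Subgroup.map_mono (pcOf_le p H)
    · intro x hx
      rw [H47.normalizer_map_conj]
      exact Subgroup.map_mono (le_normalizer_pcOf p H) hx
    · rw [Subgroup.card_map_of_injective (MulAut.conj g).injective]
      exact pcOf_card_coprime p H
  apply le_antisymm (key H g)
  have h1 := key (H.map (MulAut.conj g).toMonoidHom) g⁻¹
  have h2 := Subgroup.map_mono (f := (MulAut.conj g).toMonoidHom) h1
  rw [← H47.map_conj_mul, ← H47.map_conj_mul, mul_inv_cancel, inv_mul_cancel, H47.map_conj_one,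
    H47.map_conj_one] at h2
  exact h2

/-- An element of order at most two acting without fixed points inverts. -/
theorem inverts_of_fixedPointFree [Finite G] {D : Subgroup G} {t : G} (ht : t ^ 2 = 1)
    (hN : t ∈ normalizer (D : Set G)) (h : ∀ d ∈ D, t * d * t⁻¹ = d → d = 1) :
    ∀ d ∈ D, t * d * t⁻¹ = d⁻¹ := by
  intro d hd
  have hfp : MonoidHom.FixedPointFree (conjEquiv t hN) := by
    intro x hx
    have h1 : t * (x : G) * t⁻¹ = x := congrArg Subtype.val hx
    exact Subtype.ext (h x x.2 h1)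
  have ht' : t⁻¹ = t := by rw [inv_eq_iff_mul_eq_one, ← sq, ht]
  have hinv : Function.Involutive (conjEquiv t hN) := by
    intro x
    apply Subtype.ext
    show t * (t * (x : G) * t⁻¹) * t⁻¹ = x
    have h3 : t * t = 1 := by rw [← sq, ht]
    rw [ht']
    calc t * (t * (x : G) * t) * t = (t * t) * x * (t * t) := by group
      _ = x := by rw [h3, one_mul, mul_one]
  have h2 := hfp.coe_eq_inv_of_involutive hinv
  have h3 := congrFun h2 ⟨d, hd⟩
  exact congrArg Subtype.val h3

theorem commute_of_inverts {D : Subgroup G} {t : G} (h : ∀ d ∈ D, t * d * t⁻¹ = d⁻¹) :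
    ∀ a ∈ D, ∀ b ∈ D, a * b = b * a := by
  intro a ha b hb
  have h1 := h (a * b) (D.mul_mem ha hb)
  have h2 : t * (a * b) * t⁻¹ = (t * a * t⁻¹) * (t * b * t⁻¹) := by group
  rw [h2, h a ha, h b hb, mul_inv_rev] at h1
  have h3 := congrArg Inv.inv h1
  simp only [mul_inv_rev, inv_inv] at h3
  exact h3.symm

/-- An element of odd order is a power of its square. -/
theorem mem_of_sq_mem {D W : Subgroup G} [Finite G] (hD : Odd (Nat.card D)) {e : G} (he : e ∈ D)
    (h : e ^ 2 ∈ W) : e ∈ W := by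
  obtain ⟨k, hk⟩ := hD
  have h1 : e ^ Nat.card D = 1 := by
    have := pow_card_eq_one' (x := (⟨e, he⟩ : D))
    exact congrArg Subtype.val this
  have h2 : e = (e ^ 2) ^ (k + 1) := by
    rw [← pow_mul]
    have : 2 * (k + 1) = Nat.card D + 1 := by omega
    rw [this, pow_succ, h1, one_mul]
  rw [h2]
  exact W.pow_mem h _

/-- Let `l` be a list of commuting elements of order at most two normalizing the abelian subgroup
`D` of odd order. Then `D` is generated by the elements which each member of `l` centralizes or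
inverts. -/
theorem closure_eigen [Finite G] {D : Subgroup G} (hD : Odd (Nat.card D))
    (hab : ∀ a ∈ D, ∀ b ∈ D, a * b = b * a) (Y : Subgroup G) (hY : Cfsg.IsElementaryAbelian 2 Y)
    (hYD : Y ≤ normalizer (D : Set G)) (l : List G) (hl : ∀ y ∈ l, y ∈ Y) :
    D ≤ closure {e | e ∈ D ∧ ∀ y ∈ l, y * e * y⁻¹ = e ∨ y * e * y⁻¹ = e⁻¹} := by
  induction l with
  | nil =>
    intro x hx
    exact Subgroup.subset_closure ⟨hx, by simp⟩
  | cons y l ih =>
    have hl' : ∀ y ∈ l, y ∈ Y := fun z hz => hl z (List.mem_cons_of_mem _ hz)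
    refine (ih hl').trans ?_
    rw [closure_le]
    rintro e ⟨heD, he⟩
    have hyY : y ∈ Y := hl y List.mem_cons_self
    have hy2 : y * y = 1 := by rw [← sq]; exact hY.2 y hyY
    have hyi : y⁻¹ = y := by rw [inv_eq_iff_mul_eq_one]; exact hy2
    obtain ⟨f, hf⟩ : ∃ f, f = y * e * y⁻¹ := ⟨_, rfl⟩
    have hfD : f ∈ D := hf ▸ (mem_normalizer_iff.1 (hYD hyY) e).1 heD
    have hyf : y * f * y⁻¹ = e := by
      rw [hf, hyi]
      calc y * (y * e * y) * y = (y * y) * e * (y * y) := by group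
        _ = e := by rw [hy2, one_mul, mul_one]
    have hcomY : ∀ z ∈ Y, z * y = y * z := fun z hz =>
      congrArg Subtype.val (hY.1.is_comm.comm (⟨z, hz⟩ : Y) ⟨y, hyY⟩)
    have hz : ∀ z ∈ l, (z * e * z⁻¹ = e ∧ z * f * z⁻¹ = f) ∨
        (z * e * z⁻¹ = e⁻¹ ∧ z * f * z⁻¹ = f⁻¹) := by
      intro z hzl
      have hc := hcomY z (hl' z hzl)
      have h1 : z * f * z⁻¹ = y * (z * e * z⁻¹) * y⁻¹ := by
        rw [hf]
        have hc' : y⁻¹ * z⁻¹ = z⁻¹ * y⁻¹ := by
          rw [← mul_inv_rev, ← mul_inv_rev, hc]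
        calc z * (y * e * y⁻¹) * z⁻¹ = (z * y) * e * (y⁻¹ * z⁻¹) := by group
          _ = (y * z) * e * (z⁻¹ * y⁻¹) := by rw [hc, hc']
          _ = y * (z * e * z⁻¹) * y⁻¹ := by group
      rcases he z hzl with h | h
      · left; exact ⟨h, by rw [h1, h, ← hf]⟩
      · right; refine ⟨h, ?_⟩
        rw [h1, h, hf]; group
    -- the two factors
    have ha : e * f ∈ closure {e | e ∈ D ∧ ∀ y' ∈ y :: l, y' * e * y'⁻¹ = e ∨ y' * e * y'⁻¹ = e⁻¹} := by
      apply Subgroup.subset_closure
      refine ⟨D.mul_mem heD hfD, ?_⟩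
      intro z hzl
      rcases List.mem_cons.1 hzl with rfl | hzl
      · left
        calc z * (e * f) * z⁻¹ = (z * e * z⁻¹) * (z * f * z⁻¹) := by group
          _ = f * e := by rw [hyf, ← hf]
          _ = e * f := hab _ hfD _ heD
      · rcases hz z hzl with ⟨h1, h2⟩ | ⟨h1, h2⟩
        · left
          calc z * (e * f) * z⁻¹ = (z * e * z⁻¹) * (z * f * z⁻¹) := by group
            _ = e * f := by rw [h1, h2]
        · right
          calc z * (e * f) * z⁻¹ = (z * e * z⁻¹) * (z * f * z⁻¹) := by group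
            _ = e⁻¹ * f⁻¹ := by rw [h1, h2]
            _ = (e * f)⁻¹ := by rw [hab e heD f hfD, mul_inv_rev]
    have hb : e * f⁻¹ ∈ closure {e | e ∈ D ∧ ∀ y' ∈ y :: l, y' * e * y'⁻¹ = e ∨ y' * e * y'⁻¹ = e⁻¹} := by
      apply Subgroup.subset_closure
      refine ⟨D.mul_mem heD (D.inv_mem hfD), ?_⟩
      intro z hzl
      rcases List.mem_cons.1 hzl with rfl | hzl
      · right
        calc z * (e * f⁻¹) * z⁻¹ = (z * e * z⁻¹) * (z * f * z⁻¹)⁻¹ := by group
          _ = f * e⁻¹ := by rw [hyf, ← hf]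
          _ = (e * f⁻¹)⁻¹ := by group
      · rcases hz z hzl with ⟨h1, h2⟩ | ⟨h1, h2⟩
        · left
          calc z * (e * f⁻¹) * z⁻¹ = (z * e * z⁻¹) * (z * f * z⁻¹)⁻¹ := by group
            _ = e * f⁻¹ := by rw [h1, h2]
        · right
          calc z * (e * f⁻¹) * z⁻¹ = (z * e * z⁻¹) * (z * f * z⁻¹)⁻¹ := by group
            _ = e⁻¹ * f⁻¹⁻¹ := by rw [h1, h2]
            _ = (e * f⁻¹)⁻¹ := by
              rw [hab e heD f⁻¹ (D.inv_mem hfD), mul_inv_rev]
    have he2 : e ^ 2 = (e * f) * (e * f⁻¹) := by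
      rw [hab e heD f hfD, sq]; 
      calc e * e = e * e := rfl
        _ = f * f⁻¹ * (e * e) := by group
        _ = f * (f⁻¹ * (e * e)) := by group
        _ = f * ((e * e) * f⁻¹) := by
          rw [hab _ (D.inv_mem hfD) (e * e) (D.mul_mem heD heD)]
        _ = f * e * (e * f⁻¹) := by group
    apply mem_of_sq_mem hD heD
    rw [he2]
    exact Subgroup.mul_mem _ ha hb

end Cfsg.Agent.H49
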